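import Groth.Agent.RadPtUnib.AtPrime
import Groth.Prelude.Def_EGA4Misc
import Mathlib.AlgebraicGeometry.ResidueField
import Mathlib.AlgebraicGeometry.Morphisms.Integral
import Mathlib.FieldTheory.PurelyInseparable.Basic

/-! Geometric unibranchness along birational integral morphisms. -/

universe u

open CategoryTheory AlgebraicGeometry

namespace Groth.Agent.RadPtUnib

/-- Generic points are the points without proper generalisations. -/
theorem mem_genericPoints_iff {X : Scheme.{u}} (x : X) : x ∈ genericPoints X ↔ ∀ z : X, z ⤳ x → z = x := by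
  constructor
  · intro hx z hz
    have h1 : closure {x} ⊆ closure {z} :=
      closure_minimal (Set.singleton_subset_iff.mpr (specializes_iff_mem_closure.mp hz)) isClosed_closure
    have h2 : closure {z} ⊆ closure {x} := (hx : closure {x} ∈ irreducibleComponents X).2
      isIrreducible_singleton.closure h1
    exact ((specializes_iff_mem_closure.mpr (h2 (subset_closure rfl))).antisymm hz).eq.symm
  · intro h
    refine ⟨isIrreducible_singleton.closure, fun t ht hxt => ?_⟩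
    obtain ⟨z, hz⟩ := QuasiSober.sober ht.closure isClosed_closure
    have hzx : z ⤳ x := hz.specializes (subset_closure (hxt (subset_closure rfl)))
    intro w hw
    rw [← h z hzx, hz.def]
    exact subset_closure hw

section Chart

variable {X : Scheme.{u}} {U : X.Opens} (hU : IsAffineOpen U)

theorem primeIdealOf_fromSpec (P : PrimeSpectrum Γ(X, U)) (h : hU.fromSpec P ∈ U) :
    hU.primeIdealOf ⟨hU.fromSpec P, h⟩ = P :=
  hU.fromSpec.isOpenEmbedding.injective (hU.fromSpec_primeIdealOf ⟨_, h⟩)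

theorem fromSpec_mem (P : PrimeSpectrum Γ(X, U)) : hU.fromSpec P ∈ U := by
  have : hU.fromSpec P ∈ Set.range hU.fromSpec := ⟨P, rfl⟩
  rwa [hU.range_fromSpec] at this

theorem exists_point (P : Ideal Γ(X, U)) (hP : P.IsPrime) :
    ∃ (x : X) (hx : x ∈ U), (hU.primeIdealOf ⟨x, hx⟩).asIdeal = P :=
  ⟨_, fromSpec_mem hU ⟨P, hP⟩,
    congrArg PrimeSpectrum.asIdeal (primeIdealOf_fromSpec hU ⟨P, hP⟩ (fromSpec_mem hU ⟨P, hP⟩))⟩

theorem eq_of_primeIdealOf_eq {x x' : X} (hx : x ∈ U) (hx' : x' ∈ U)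
    (h : (hU.primeIdealOf ⟨x, hx⟩).asIdeal = (hU.primeIdealOf ⟨x', hx'⟩).asIdeal) : x = x' := by
  have h1 := hU.fromSpec_primeIdealOf ⟨x, hx⟩
  rw [PrimeSpectrum.ext h, hU.fromSpec_primeIdealOf ⟨x', hx'⟩] at h1
  exact h1.symm

theorem le_iff_specializes {x x' : X} (hx : x ∈ U) (hx' : x' ∈ U) :
    (hU.primeIdealOf ⟨x, hx⟩).asIdeal ≤ (hU.primeIdealOf ⟨x', hx'⟩).asIdeal ↔ x ⤳ x' := by
  rw [PrimeSpectrum.asIdeal_le_asIdeal, PrimeSpectrum.le_iff_specializes]
  refine hU.fromSpec.isOpenEmbedding.isInducing.specializes_iff.symm.trans ?_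
  rw [hU.fromSpec_primeIdealOf, hU.fromSpec_primeIdealOf]

theorem minimal_iff {x : X} (hx : x ∈ U) :
    (hU.primeIdealOf ⟨x, hx⟩).asIdeal ∈ minimalPrimes Γ(X, U) ↔ x ∈ genericPoints X := by
  rw [mem_genericPoints_iff]
  constructor
  · intro h z hz
    have hzU : z ∈ U := hz.mem_open U.2 hx
    exact eq_of_primeIdealOf_eq hU hzU hx (le_antisymm ((le_iff_specializes hU hzU hx).mpr hz)
      (h.2 ⟨(hU.primeIdealOf ⟨z, hzU⟩).2, bot_le⟩ ((le_iff_specializes hU hzU hx).mpr hz)))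
  · intro h
    refine ⟨⟨(hU.primeIdealOf ⟨x, hx⟩).2, bot_le⟩, fun J hJ hJx => ?_⟩
    obtain ⟨z, hzU, rfl⟩ := exists_point hU J hJ.1
    obtain rfl := h z ((le_iff_specializes hU hzU hx).mp hJx)
    exact le_rfl

/-- The evaluation at a point of an affine open is the quotient by its prime. -/
theorem evaluation_eq_zero_iff {x : X} (hx : x ∈ U) (a : Γ(X, U)) :
    X.evaluation U x hx a = 0 ↔ a ∈ (hU.primeIdealOf ⟨x, hx⟩).asIdeal := by
  rw [X.evaluation_eq_zero_iff_notMem_basicOpen]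
  have hpre := hU.fromSpec_preimage_basicOpen a
  have h1 : x ∈ X.basicOpen a ↔ a ∉ (hU.primeIdealOf ⟨x, hx⟩).asIdeal := by
    have e : hU.primeIdealOf ⟨x, hx⟩ ∈ hU.fromSpec ⁻¹ᵁ X.basicOpen a ↔ x ∈ X.basicOpen a := by
      show hU.fromSpec (hU.primeIdealOf ⟨x, hx⟩) ∈ X.basicOpen a ↔ _
      rw [hU.fromSpec_primeIdealOf]
    rw [← e, hpre]
    rfl
  rw [h1, not_not]

/-- Elements of the residue field are fractions of sections. -/
theorem exists_evaluation_mul {x : X} (hx : x ∈ U) (z : X.residueField x) :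
    ∃ a s : Γ(X, U), s ∉ (hU.primeIdealOf ⟨x, hx⟩).asIdeal ∧
      z * X.evaluation U x hx s = X.evaluation U x hx a := by
  letI : Algebra Γ(X, U) (X.presheaf.stalk x) := TopCat.Presheaf.algebra_section_stalk X.presheaf (⟨x, hx⟩ : U)
  haveI : IsLocalization.AtPrime (X.presheaf.stalk x) (hU.primeIdealOf ⟨x, hx⟩).asIdeal :=
    hU.isLocalization_stalk ⟨x, hx⟩
  obtain ⟨w, rfl⟩ := X.residue_surjective x z
  obtain ⟨⟨a, s⟩, has⟩ := IsLocalization.surj (hU.primeIdealOf ⟨x, hx⟩).asIdeal.primeCompl w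
  exact ⟨a, s, s.2, (map_mul (X.residue x).hom w _).symm.trans (congrArg (X.residue x).hom has)⟩

theorem isGeomUnibranch_iff_branch {x : X} (hx : x ∈ U) :
    CAlg2.IsGeomUnibranch (X.presheaf.stalk x) ↔
      IntBC.Branch (Localization.AtPrime (hU.primeIdealOf ⟨x, hx⟩).asIdeal) := by
  letI : Algebra Γ(X, U) (X.presheaf.stalk x) := TopCat.Presheaf.algebra_section_stalk X.presheaf (⟨x, hx⟩ : U)
  haveI : IsLocalization.AtPrime (X.presheaf.stalk x) (hU.primeIdealOf ⟨x, hx⟩).asIdeal :=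
    hU.isLocalization_stalk ⟨x, hx⟩
  let e : X.presheaf.stalk x ≃+* Localization.AtPrime (hU.primeIdealOf ⟨x, hx⟩).asIdeal :=
    (IsLocalization.algEquiv (hU.primeIdealOf ⟨x, hx⟩).asIdeal.primeCompl (X.presheaf.stalk x)
      (Localization.AtPrime (hU.primeIdealOf ⟨x, hx⟩).asIdeal)).toRingEquiv
  exact ⟨fun h => IntBC.Branch.of_ringEquiv e (IntBC.branch_of_isGeomUnibranch h),
    fun h => IntBC.isGeomUnibranch_of_branch (IntBC.Branch.of_ringEquiv e.symm h)⟩

end Chart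

theorem main {X Y : Scheme.{u}} (f : X ⟶ Y) [IsIntegralHom f] (hf : RadPt.IsBirational f) (y : Y) :
    CAlg2.IsGeomUnibranch (Y.presheaf.stalk y) ↔
      (RadPt.IsRadicialAt f y ∧ ∀ x : X, f x = y → CAlg2.IsGeomUnibranch (X.presheaf.stalk x)) := by
  obtain ⟨V, hV, hyV, -⟩ := exists_isAffineOpen_mem_and_subset (U := ⊤) (Set.mem_univ y)
  have hU : IsAffineOpen (f ⁻¹ᵁ V) := hV.preimage f
  let R := Γ(Y, V)
  let T := Γ(X, f ⁻¹ᵁ V)
  letI : Algebra R T := (f.app V).hom.toAlgebra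
  haveI : Algebra.IsIntegral R T := ⟨IsIntegralHom.isIntegral_app f V hV⟩
  have hev : ∀ (x : X) (hx : f x ∈ V) (a : R),
      X.evaluation (f ⁻¹ᵁ V) x hx (algebraMap R T a) = f.residueFieldMap x (Y.evaluation V (f x) hx a) :=
    fun x hx a => (Scheme.evaluation_naturality_apply f x hx a).symm
  have hc : ∀ (x : X) (hx : f x ∈ V), (hU.primeIdealOf ⟨x, hx⟩).asIdeal.comap (algebraMap R T) =
      (hV.primeIdealOf ⟨f x, hx⟩).asIdeal := by
    intro x hx
    ext a
    rw [Ideal.mem_comap, ← evaluation_eq_zero_iff hU, ← evaluation_eq_zero_iff hV, hev]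
    exact map_eq_zero_iff _ (f.residueFieldMap x).hom.injective
  have hcy : ∀ (x : X) (hx : f x ∈ V) (y' : Y) (hy' : y' ∈ V),
      (hU.primeIdealOf ⟨x, hx⟩).asIdeal.comap (algebraMap R T) = (hV.primeIdealOf ⟨y', hy'⟩).asIdeal ↔
        f x = y' := by
    intro x hx y' hy'
    rw [hc]
    exact ⟨fun h => eq_of_primeIdealOf_eq hV hx hy' h, fun h => by subst h; rfl⟩
  have hmin : ∀ p ∈ minimalPrimes R, ∃ P : Ideal T, P.IsPrime ∧ P.comap (algebraMap R T) = p := by
    intro p hp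
    obtain ⟨v, hv, rfl⟩ := exists_point hV p hp.1.1
    obtain ⟨x, -, rfl⟩ := hf.1.2.2 ((minimal_iff hV hv).mp hp)
    exact ⟨_, (hU.primeIdealOf ⟨x, hv⟩).2, hc x hv⟩
  have hbir : ∀ P ∈ minimalPrimes T, P.comap (algebraMap R T) ∈ minimalPrimes R := by
    intro P hP
    obtain ⟨x, hx, rfl⟩ := exists_point hU P hP.1.1
    have hx' : f x ∈ V := hx
    rw [hc x hx', minimal_iff hV hx']
    exact hf.1.1 ((minimal_iff hU hx).mp hP)
  have huniq : ∀ p ∈ minimalPrimes R, ∀ P P' : Ideal T, P.IsPrime → P'.IsPrime →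
      P.comap (algebraMap R T) = p → P'.comap (algebraMap R T) = p → P = P' := by
    intro p hp P P' hP hP' e e'
    obtain ⟨v, hv, rfl⟩ := exists_point hV p hp.1.1
    obtain ⟨x, hx, rfl⟩ := exists_point hU P hP
    obtain ⟨x', hx', rfl⟩ := exists_point hU P' hP'
    obtain rfl := (hf.2 v ((minimal_iff hV hv).mp hp)).1 x x' ((hcy x hx v hv).mp e) ((hcy x' hx' v hv).mp e')
    rfl
  have hres : ∀ P : Ideal T, P.IsPrime → P.comap (algebraMap R T) ∈ minimalPrimes R → ∀ t : T,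
      ∃ a s : R, algebraMap R T s ∉ P ∧ algebraMap R T s * t - algebraMap R T a ∈ P := by
    intro P hP hPmin t
    obtain ⟨x, hx, rfl⟩ := exists_point hU P hP
    have hx' : f x ∈ V := hx
    rw [hc x hx', minimal_iff hV hx'] at hPmin
    obtain ⟨z, hz⟩ := ((hf.2 _ hPmin).2 x rfl).2 (X.evaluation (f ⁻¹ᵁ V) x hx t)
    obtain ⟨a, s, hs, has⟩ := exists_evaluation_mul hV hx' z
    refine ⟨a, s, fun h => hs ((hc x hx').le h), ?_⟩
    rw [← evaluation_eq_zero_iff hU, map_sub, map_mul, hev x hx', hev x hx', ← hz, ← has, map_mul, mul_comm,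
      sub_self]
  have hrad : ∀ (x : X) (hx : f x ∈ V), (f.residueFieldMap x).hom.IsPurelyInseparable ↔
      RadAt (hV.primeIdealOf ⟨f x, hx⟩).asIdeal (hU.primeIdealOf ⟨x, hx⟩).asIdeal := by
    intro x hx
    let q := (hV.primeIdealOf ⟨f x, hx⟩).asIdeal
    let ρ : R →+* Y.residueField (f x) := (Y.evaluation V (f x) hx).hom
    let κ : q.ResidueField →+* Y.residueField (f x) :=
      Ideal.ResidueField.lift q ρ (fun a ha => (evaluation_eq_zero_iff hV hx a).mpr ha)
        (fun a ha => isUnit_iff_ne_zero.mpr fun h => ha ((evaluation_eq_zero_iff hV hx a).mp h))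
    haveI : ExpChar q.ResidueField (ringExpChar q.ResidueField) := ringExpChar.expChar _
    haveI : ExpChar (Y.residueField (f x)) (ringExpChar q.ResidueField) :=
      (RingHom.expChar_iff κ κ.injective _).mp inferInstance
    unfold RingHom.IsPurelyInseparable
    letI := (f.residueFieldMap x).hom.toAlgebra
    rw [isPurelyInseparable_iff_pow_mem (Y.residueField (f x)) (ringExpChar q.ResidueField)]
    constructor
    · intro h t
      obtain ⟨n, z, hz⟩ := h (X.evaluation (f ⁻¹ᵁ V) x hx t)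
      obtain ⟨a, s, hs, has⟩ := exists_evaluation_mul hV hx z
      refine ⟨n, a, s, hs, ?_⟩
      rw [← evaluation_eq_zero_iff hU, map_sub, map_mul, map_pow, hev x hx, hev x hx, ← has, map_mul]
      show _ - (f.residueFieldMap x).hom z * _ = 0
      rw [show (f.residueFieldMap x).hom z = _ from hz]
      ring
    · intro h w
      obtain ⟨t, u, hu, htu⟩ := exists_evaluation_mul hU hx w
      obtain ⟨m, a, s, hs, hsa⟩ := h t
      obtain ⟨j, b, r, hr, hrb⟩ := h u
      rw [← evaluation_eq_zero_iff hU, map_sub, map_mul, map_pow, hev x hx, hev x hx, sub_eq_zero] at hsa hrb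
      set φ := (f.residueFieldMap x).hom
      set c := ringExpChar q.ResidueField
      let E := fun a => (Y.evaluation V (f x) hx).hom a
      have hs0 : φ (E s) ≠ 0 := (map_ne_zero φ).mpr fun h0 => hs ((evaluation_eq_zero_iff hV hx s).mp h0)
      have hr0 : φ (E r) ≠ 0 := (map_ne_zero φ).mpr fun h0 => hr ((evaluation_eq_zero_iff hV hx r).mp h0)
      have hu0 : X.evaluation (f ⁻¹ᵁ V) x hx u ≠ 0 := fun h0 => hu ((evaluation_eq_zero_iff hU hx u).mp h0)
      refine ⟨m + j, (E a / E s) ^ c ^ j / (E b / E r) ^ c ^ m, ?_⟩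
      show φ _ = _
      rw [map_div₀, map_pow, map_pow, map_div₀, map_div₀,
        show φ (E a) / φ (E s) = X.evaluation (f ⁻¹ᵁ V) x hx t ^ c ^ m from
          (eq_div_iff hs0).mpr (by rw [mul_comm]; exact hsa) |>.symm,
        show φ (E b) / φ (E r) = X.evaluation (f ⁻¹ᵁ V) x hx u ^ c ^ j from
          (eq_div_iff hr0).mpr (by rw [mul_comm]; exact hrb) |>.symm,
        ← pow_mul, ← pow_mul, ← pow_add, ← pow_add, add_comm j m, ← div_pow, ← htu,
        mul_div_cancel_right₀ _ hu0]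
  rw [isGeomUnibranch_iff_branch hV hyV, branch_atPrime_iff hmin hbir huniq hres (hV.primeIdealOf ⟨y, hyV⟩).asIdeal]
  constructor
  · rintro ⟨h1, h2⟩
    refine ⟨⟨fun x x' hx hx' => ?_, fun x hx => ?_⟩, fun x hx => ?_⟩
    · have hxV : f x ∈ V := hx.symm ▸ hyV
      have hxV' : f x' ∈ V := hx'.symm ▸ hyV
      exact eq_of_primeIdealOf_eq hU hxV hxV' (h1 _ _ (hU.primeIdealOf ⟨x, hxV⟩).2
        (hU.primeIdealOf ⟨x', hxV'⟩).2 ((hcy x hxV y hyV).mpr hx) ((hcy x' hxV' y hyV).mpr hx'))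
    · subst hx
      exact (hrad x hyV).mpr (h2 (hU.primeIdealOf ⟨x, hyV⟩).asIdeal (hc x hyV)).1
    · subst hx
      exact (isGeomUnibranch_iff_branch hU (x := x) hyV).mpr (h2 (hU.primeIdealOf ⟨x, hyV⟩).asIdeal (hc x hyV)).2
  · rintro ⟨⟨h1, h2⟩, h3⟩
    refine ⟨fun Q Q' hQ hQ' e e' => ?_, fun Q hQ e => ?_⟩
    · obtain ⟨x, hx, rfl⟩ := exists_point hU Q hQ
      obtain ⟨x', hx', rfl⟩ := exists_point hU Q' hQ'
      obtain rfl := h1 x x' ((hcy x hx y hyV).mp e) ((hcy x' hx' y hyV).mp e')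
      rfl
    · obtain ⟨x, hx, rfl⟩ := exists_point hU Q hQ
      obtain rfl := (hcy x hx y hyV).mp e
      exact ⟨(hrad x hx).mp (h2 x rfl), (isGeomUnibranch_iff_branch hU hx).mp (h3 x rfl)⟩

end Groth.Agent.RadPtUnib
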