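import Groth.Agent.RadPtUnib.Ring
import Mathlib.RingTheory.Localization.Integral
import Mathlib.RingTheory.Localization.LocalizationLocalization
import Mathlib.RingTheory.Ideal.MinimalPrime.Localization

/-! The criterion at a prime of the base. -/

universe u

namespace Groth.Agent.RadPtUnib

open IsLocalRing

variable {R T : Type u} [CommRing R] [CommRing T] [Algebra R T] [Algebra.IsIntegral R T]

/-- The residue field extensions over `q` are purely inseparable, elementwise. -/
def RadAt (q : Ideal R) [q.IsPrime] (Q : Ideal T) : Prop :=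
  ∀ t : T, ∃ (n : ℕ) (a s : R), s ∉ q ∧
    algebraMap R T s * t ^ (ringExpChar q.ResidueField) ^ n - algebraMap R T a ∈ Q

theorem branch_atPrime_iff
    (hmin : ∀ p ∈ minimalPrimes R, ∃ P : Ideal T, P.IsPrime ∧ P.comap (algebraMap R T) = p)
    (hbir : ∀ P ∈ minimalPrimes T, P.comap (algebraMap R T) ∈ minimalPrimes R)
    (huniq : ∀ p ∈ minimalPrimes R, ∀ P P' : Ideal T, P.IsPrime → P'.IsPrime →
      P.comap (algebraMap R T) = p → P'.comap (algebraMap R T) = p → P = P')
    (hres : ∀ P : Ideal T, P.IsPrime → P.comap (algebraMap R T) ∈ minimalPrimes R → ∀ t : T,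
      ∃ a s : R, algebraMap R T s ∉ P ∧ algebraMap R T s * t - algebraMap R T a ∈ P)
    (q : Ideal R) [q.IsPrime] :
    IntBC.Branch (Localization.AtPrime q) ↔
      (∀ Q Q' : Ideal T, Q.IsPrime → Q'.IsPrime → Q.comap (algebraMap R T) = q →
        Q'.comap (algebraMap R T) = q → Q = Q') ∧
      ∀ (Q : Ideal T) [Q.IsPrime], Q.comap (algebraMap R T) = q →
        RadAt q Q ∧ IntBC.Branch (Localization.AtPrime Q) := by
  let A := Localization.AtPrime q
  let S := Algebra.algebraMapSubmonoid T q.primeCompl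
  let T' := Localization S
  letI : Algebra A T' := localizationAlgebra q.primeCompl T
  haveI : Algebra.IsIntegral A T' :=
    ⟨isIntegral_localization (R := R) (S := T) (M := q.primeCompl) (Rₘ := A) (Sₘ := T')⟩
  have hsq : ∀ r : R, algebraMap A T' (algebraMap R A r) = algebraMap T T' (algebraMap R T r) := fun r =>
    IsLocalization.map_eq _ r
  have hcomap : ∀ P' : Ideal T', ((P'.comap (algebraMap A T')).comap (algebraMap R A)) =
      (P'.comap (algebraMap T T')).comap (algebraMap R T) := fun P' => by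
    ext r
    show algebraMap A T' (algebraMap R A r) ∈ P' ↔ _
    rw [hsq]; rfl
  have hcA : ∀ I J : Ideal A, I.comap (algebraMap R A) = J.comap (algebraMap R A) → I = J := fun I J h => by
    rw [← IsLocalization.map_under q.primeCompl A I, ← IsLocalization.map_under q.primeCompl A J]
    exact congrArg (Ideal.map (algebraMap R A)) h
  have hcT : ∀ I J : Ideal T', I.comap (algebraMap T T') = J.comap (algebraMap T T') → I = J := fun I J h => by
    rw [← IsLocalization.map_under S T' I, ← IsLocalization.map_under S T' J]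
    exact congrArg (Ideal.map (algebraMap T T')) h
  have hm : (maximalIdeal A).comap (algebraMap R A) = q := IsLocalization.AtPrime.comap_maximalIdeal A q
  have hlift : ∀ Q : Ideal T, Q.IsPrime → Q.comap (algebraMap R T) ≤ q →
      ∃ Q' : Ideal T', Q'.IsPrime ∧ Q'.comap (algebraMap T T') = Q := by
    intro Q hQ hle
    have hd : Disjoint (S : Set T) (Q : Set T) := Set.disjoint_left.mpr (by
      rintro _ ⟨r, hr, rfl⟩ hmem
      exact hr (hle hmem))
    exact ⟨_, IsLocalization.isPrime_of_isPrime_disjoint S T' Q hQ hd,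
      IsLocalization.under_map_of_isPrime_disjoint S T' hQ hd⟩
  have hle : ∀ P' : Ideal T', P'.IsPrime → (P'.comap (algebraMap T T')).comap (algebraMap R T) ≤ q := by
    intro P' hP'
    rw [← hcomap]
    exact le_of_le_of_eq (Ideal.comap_mono (le_maximalIdeal (Ideal.IsPrime.comap _).ne_top)) hm
  have hover : ∀ Q' : Ideal T', Q'.comap (algebraMap A T') = maximalIdeal A ↔
      (Q'.comap (algebraMap T T')).comap (algebraMap R T) = q := fun Q' =>
    ⟨fun h => by rw [← hcomap, h, hm], fun h => hcA _ _ (by rw [hcomap, h, hm])⟩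
  have hminA : ∀ I : Ideal A, I ∈ minimalPrimes A ↔ I.IsPrime ∧ I.comap (algebraMap R A) ∈ minimalPrimes R := by
    intro I
    constructor
    · intro hI
      haveI := hI.1.1
      refine ⟨hI.1.1, ⟨Ideal.IsPrime.comap _, bot_le⟩, fun p hp hpI => ?_⟩
      haveI := hp.1
      have hd : Disjoint (q.primeCompl : Set R) (p : Set R) := Set.disjoint_left.mpr fun r hr hrp =>
        hr (hm.le (Ideal.comap_mono (le_maximalIdeal hI.1.1.ne_top) (hpI hrp)))
      haveI := IsLocalization.isPrime_of_isPrime_disjoint q.primeCompl A p hp.1 hd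
      have h1 : p.map (algebraMap R A) ≤ I := Ideal.map_le_iff_le_comap.mpr hpI
      have h2 := hI.2 ⟨this, bot_le⟩ h1
      exact (Ideal.comap_mono h2).trans (IsLocalization.under_map_of_isPrime_disjoint q.primeCompl A hp.1 hd).le
    · rintro ⟨hI, hImin⟩
      refine ⟨⟨hI, bot_le⟩, fun J hJ hJI => ?_⟩
      haveI := hJ.1
      rw [hcA J I (le_antisymm (Ideal.comap_mono hJI) (hImin.2 ⟨Ideal.IsPrime.comap _, bot_le⟩ (Ideal.comap_mono hJI)))]
  -- the hypotheses over the local ring
  have hmin' : ∀ p ∈ minimalPrimes A, ∃ P : Ideal T', P.IsPrime ∧ P.comap (algebraMap A T') = p := by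
    intro p hp
    obtain ⟨hpp, hp'⟩ := (hminA p).1 hp
    obtain ⟨P, hP, hPc⟩ := hmin _ hp'
    obtain ⟨P', hP', hP'c⟩ := hlift P hP (by
      rw [hPc]; exact le_of_le_of_eq (Ideal.comap_mono (le_maximalIdeal hpp.ne_top)) hm)
    exact ⟨P', hP', hcA _ _ (by rw [hcomap, hP'c, hPc])⟩
  have hbir' : ∀ P ∈ minimalPrimes T', P.comap (algebraMap A T') ∈ minimalPrimes A := by
    intro P hP
    haveI := hP.1.1
    refine (hminA _).2 ⟨Ideal.IsPrime.comap _, ?_⟩
    rw [hcomap]
    refine hbir _ ⟨⟨Ideal.IsPrime.comap _, bot_le⟩, fun J hJ hJP => ?_⟩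
    obtain ⟨J', hJ', hJ'c⟩ := hlift J hJ.1 ((Ideal.comap_mono hJP).trans (hle P inferInstance))
    have h1 : J' ≤ P := by
      rw [← IsLocalization.map_under S T' J', ← IsLocalization.map_under S T' P]
      exact Ideal.map_mono (hJ'c.le.trans hJP)
    exact (Ideal.comap_mono (hP.2 ⟨hJ', bot_le⟩ h1)).trans hJ'c.le
  have huniq' : ∀ p ∈ minimalPrimes A, ∀ P P' : Ideal T', P.IsPrime → P'.IsPrime →
      P.comap (algebraMap A T') = p → P'.comap (algebraMap A T') = p → P = P' := by
    intro p hp P P' hP hP' e e'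
    refine hcT P P' (huniq _ ((hminA p).1 hp).2 _ _ (Ideal.IsPrime.comap _) (Ideal.IsPrime.comap _) ?_ ?_)
    · rw [← hcomap, e]
    · rw [← hcomap, e']
  have hres' : ∀ P : Ideal T', P.IsPrime → P.comap (algebraMap A T') ∈ minimalPrimes A → ∀ t : T',
      ∃ a s : A, algebraMap A T' s ∉ P ∧ algebraMap A T' s * t - algebraMap A T' a ∈ P := by
    intro P hP hPmin z
    obtain ⟨⟨t, ⟨_, u, hu, rfl⟩⟩, hz⟩ := IsLocalization.surj S z
    obtain ⟨a, s, hs, hsa⟩ := hres (P.comap (algebraMap T T')) (Ideal.IsPrime.comap _)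
      (by rw [← hcomap]; exact ((hminA _).1 hPmin).2) t
    refine ⟨algebraMap R A a, algebraMap R A (s * u), ?_, ?_⟩
    · rw [hsq, map_mul, map_mul]
      intro h
      rcases hP.mem_or_mem h with h | h
      · exact hs h
      · exact hu (hle P hP h)
    · rw [hsq, hsq]
      have h1 : algebraMap T T' (algebraMap R T s * t - algebraMap R T a) ∈ P := hsa
      rw [map_sub, map_mul (algebraMap T T') (algebraMap R T s) t, ← hz] at h1
      rw [map_mul, map_mul]
      convert h1 using 1
      ring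
  -- residue fields
  let c := ringExpChar q.ResidueField
  have hrad : ∀ Q' : Ideal T', Q'.IsPrime → Q'.comap (algebraMap A T') = maximalIdeal A →
      ((∀ t : T', ∃ (n : ℕ) (r : A), t ^ c ^ n - algebraMap A T' r ∈ Q') ↔
        RadAt q (Q'.comap (algebraMap T T'))) := by
    intro Q' hQ' hc
    have hcq := (hover Q').1 hc
    haveI := expChar_quot Q' hc
    constructor
    · intro h t
      obtain ⟨n, r, hr⟩ := h (algebraMap T T' t)
      obtain ⟨⟨a, s⟩, has⟩ := IsLocalization.surj q.primeCompl r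
      refine ⟨n, a, s, s.2, ?_⟩
      rw [Ideal.mem_comap, map_sub, map_mul, map_pow, ← hsq a, ← has, map_mul, hsq (s : R)]
      have := Q'.mul_mem_left (algebraMap T T' (algebraMap R T (s : R))) hr
      convert this using 1
      show _ = _ * (_ ^ ringExpChar q.ResidueField ^ n - _)
      ring
    · intro h z
      obtain ⟨⟨t, ⟨_, u, hu, rfl⟩⟩, hz⟩ := IsLocalization.surj S z
      obtain ⟨n, a, s, hs, hsa⟩ := h t
      have hu' : IsUnit (algebraMap R A (s * u ^ c ^ n)) :=
        IsLocalization.map_units A (⟨s * u ^ c ^ n, q.primeCompl.mul_mem hs (q.primeCompl.pow_mem hu _)⟩ : q.primeCompl)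
      obtain ⟨v, hv⟩ := hu'.exists_left_inv
      refine ⟨n, v * algebraMap R A a, ?_⟩
      have h1 : algebraMap T T' (algebraMap R T s * t ^ c ^ n - algebraMap R T a) ∈ Q' := hsa
      rw [map_sub, map_mul (algebraMap T T') (algebraMap R T s), map_pow, ← hz, ← hsq a, mul_pow, ← hsq, ← hsq u,
        ← map_pow (algebraMap A T')] at h1
      have hv' : algebraMap A T' v * (algebraMap A T' (algebraMap R A s) *
          algebraMap A T' (algebraMap R A u ^ c ^ n)) = 1 := by
        rw [← map_pow (algebraMap R A), ← map_mul, ← map_mul (algebraMap R A), ← map_mul, hv, map_one]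
      have h2 := Q'.mul_mem_left (algebraMap A T' v) h1
      rw [map_mul]
      convert h2 using 1
      linear_combination (-(z ^ c ^ n)) * hv'
  have hbr : ∀ (Q' : Ideal T') [Q'.IsPrime],
      IntBC.Branch (Localization.AtPrime Q') ↔ IntBC.Branch (Localization.AtPrime (Q'.comap (algebraMap T T'))) := by
    intro Q' _
    have e := IsLocalization.localizationLocalizationAtPrimeIsoLocalization S Q'
    exact ⟨IntBC.Branch.of_ringEquiv e.symm.toRingEquiv, IntBC.Branch.of_ringEquiv e.toRingEquiv⟩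
  have hbr' : ∀ (Q Q₁ : Ideal T) [Q.IsPrime] [Q₁.IsPrime], Q = Q₁ →
      IntBC.Branch (Localization.AtPrime Q) → IntBC.Branch (Localization.AtPrime Q₁) := by
    intro Q Q₁ _ _ e h
    subst e
    exact h
  constructor
  · intro h
    obtain ⟨h1, h2, h3⟩ := fibre_of_branch (T := T') h hmin' hbir' huniq' hres'
    refine ⟨fun Q Q₁ hQ hQ₁ e e₁ => ?_, fun Q hQ e => ?_⟩
    · obtain ⟨Q', hQ', rfl⟩ := hlift Q hQ e.le
      obtain ⟨Q₁', hQ₁', rfl⟩ := hlift Q₁ hQ₁ e₁.le
      rw [h1 Q' Q₁' hQ' hQ₁' ((hover Q').2 e) ((hover Q₁').2 e₁)]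
    · obtain ⟨Q', hQ', hQ'c⟩ := hlift Q hQ e.le
      haveI := hQ'
      have ec := (hover Q').2 (hQ'c ▸ e)
      exact ⟨hQ'c ▸ (hrad Q' hQ' ec).1 (h2 Q' hQ' ec), hbr' _ _ hQ'c ((hbr Q').1 (h3 Q' ec))⟩
  · rintro ⟨h1, h23⟩
    refine branch_of_fibre (T := T') (fun p hp => ?_) (fun Q' Q₁' hQ' hQ₁' e e₁ => ?_) (fun Q' hQ' e => ?_)
      (fun Q' _ e => ?_)
    · obtain ⟨P, -, hP⟩ := hmin' p hp
      exact ⟨P, hP⟩
    · exact hcT _ _ (h1 _ _ (Ideal.IsPrime.comap _) (Ideal.IsPrime.comap _) ((hover Q').1 e) ((hover Q₁').1 e₁))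
    · haveI := hQ'
      exact (hrad Q' hQ' e).2 (h23 _ ((hover Q').1 e)).1
    · exact (hbr Q').2 (h23 _ ((hover Q').1 e)).2

end Groth.Agent.RadPtUnib
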