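import Groth.Agent.IntBC.Branch
import Groth.Agent.IntBC.UnibranchDescent
import Mathlib.RingTheory.Ideal.GoingUp
import Mathlib.RingTheory.Ideal.MinimalPrime.Basic

/-! Geometric unibranchness along birational integral algebras over a local ring. -/

universe u

namespace Groth.Agent.RadPtUnib

open IsLocalRing

variable {R T : Type u} [CommRing R] [IsLocalRing R] [CommRing T] [Algebra R T] [Algebra.IsIntegral R T]

theorem branch_atPrime_maximal : IntBC.Branch (Localization.AtPrime (maximalIdeal R)) ↔ IntBC.Branch R := by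
  have e : R ≃ₐ[R] Localization.AtPrime (maximalIdeal R) :=
    IsLocalization.atUnits R (maximalIdeal R).primeCompl fun x hx => by
      have hx' : x ∉ maximalIdeal R := hx
      rwa [IsLocalRing.mem_maximalIdeal, mem_nonunits_iff, not_not] at hx'
  exact ⟨IntBC.Branch.of_ringEquiv e.symm.toRingEquiv, IntBC.Branch.of_ringEquiv e.toRingEquiv⟩

theorem expChar_quot (Q : Ideal T) [Q.IsPrime] (hQ : Q.comap (algebraMap R T) = maximalIdeal R) :
    ExpChar (T ⧸ Q) (ringExpChar (ResidueField R)) := by
  let χ : ResidueField R →+* T ⧸ Q := Ideal.quotientMap Q (algebraMap R T) hQ.ge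
  haveI : ExpChar (ResidueField R) (ringExpChar (ResidueField R)) := ringExpChar.expChar _
  exact (RingHom.expChar_iff χ χ.injective _).mp inferInstance

/-- Descent: a radicial closed fibre with unibranch points gives a unibranch ring. -/
theorem branch_of_fibre (hmin : ∀ p ∈ minimalPrimes R, ∃ P : Ideal T, P.comap (algebraMap R T) = p)
    (huniq : ∀ Q Q' : Ideal T, Q.IsPrime → Q'.IsPrime → Q.comap (algebraMap R T) = maximalIdeal R →
      Q'.comap (algebraMap R T) = maximalIdeal R → Q = Q')
    (hrad : ∀ Q : Ideal T, Q.IsPrime → Q.comap (algebraMap R T) = maximalIdeal R → ∀ t : T, ∃ (n : ℕ) (r : R),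
      t ^ (ringExpChar (ResidueField R)) ^ n - algebraMap R T r ∈ Q)
    (hbr : ∀ (Q : Ideal T) [Q.IsPrime], Q.comap (algebraMap R T) = maximalIdeal R →
      IntBC.Branch (Localization.AtPrime Q)) :
    IntBC.Branch R := by
  have hker : ∀ x : R, algebraMap R T x = 0 → IsNilpotent x := by
    intro x hx
    rw [← mem_nilradical, nilradical, Submodule.zero_eq_bot, ← Ideal.sInf_minimalPrimes, Ideal.mem_sInf]
    intro p hp
    obtain ⟨P, rfl⟩ := hmin p hp
    rw [Ideal.mem_comap, hx]
    exact P.zero_mem
  refine branch_atPrime_maximal.1 (IntBC.branch_of_radicial hker (maximalIdeal R)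
    (ringExpChar (ResidueField R)) (fun Q hQ hc => expChar_quot Q hc) (fun t => ?_) hbr)
  by_cases hne : ∃ Q : Ideal T, Q.IsPrime ∧ Q.comap (algebraMap R T) = maximalIdeal R
  · obtain ⟨Q, hQ, hc⟩ := hne
    obtain ⟨n, r, hr⟩ := hrad Q hQ hc t
    exact ⟨n, r, fun Q' hQ' hc' => huniq Q Q' hQ hQ' hc hc' ▸ hr⟩
  · exact ⟨0, 0, fun Q hQ hc => absurd ⟨Q, hQ, hc⟩ hne⟩

/-- A unibranch ring has a radicial closed fibre with unibranch points in birational integral algebras. -/
theorem fibre_of_branch (h : IntBC.Branch R)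
    (hmin : ∀ p ∈ minimalPrimes R, ∃ P : Ideal T, P.IsPrime ∧ P.comap (algebraMap R T) = p)
    (hbir : ∀ P ∈ minimalPrimes T, P.comap (algebraMap R T) ∈ minimalPrimes R)
    (huniq : ∀ p ∈ minimalPrimes R, ∀ P P' : Ideal T, P.IsPrime → P'.IsPrime →
      P.comap (algebraMap R T) = p → P'.comap (algebraMap R T) = p → P = P')
    (hres : ∀ P : Ideal T, P.IsPrime → P.comap (algebraMap R T) ∈ minimalPrimes R → ∀ t : T,
      ∃ a s : R, algebraMap R T s ∉ P ∧ algebraMap R T s * t - algebraMap R T a ∈ P) :
    (∀ Q Q' : Ideal T, Q.IsPrime → Q'.IsPrime → Q.comap (algebraMap R T) = maximalIdeal R →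
      Q'.comap (algebraMap R T) = maximalIdeal R → Q = Q') ∧
    (∀ Q : Ideal T, Q.IsPrime → Q.comap (algebraMap R T) = maximalIdeal R → ∀ t : T, ∃ (n : ℕ) (r : R),
      t ^ (ringExpChar (ResidueField R)) ^ n - algebraMap R T r ∈ Q) ∧
    (∀ (Q : Ideal T) [Q.IsPrime], Q.comap (algebraMap R T) = maximalIdeal R →
      IntBC.Branch (Localization.AtPrime Q)) := by
  obtain ⟨D, _, _, _, _, hD, hker, hint, hins⟩ := h
  haveI := hD
  haveI := hint
  let F := FractionRing D
  let ρ : R →+* F := (algebraMap D F).comp (algebraMap R D)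
  have hnil : nilradical R = RingHom.ker (algebraMap R D) :=
    le_antisymm (fun a ha => ((mem_nilradical.mp ha).map (algebraMap R D)).eq_zero) fun a ha => hker a ha
  let p := nilradical R
  haveI hpP : p.IsPrime := by
    show (nilradical R).IsPrime
    rw [hnil]; exact RingHom.ker_isPrime _
  have hpmin : p ∈ minimalPrimes R :=
    ⟨⟨hpP, bot_le⟩, fun q hq _ => nilradical_le_prime q (H := hq.1)⟩
  have hminp : ∀ q ∈ minimalPrimes R, q = p := fun q hq =>
    le_antisymm (hq.2 ⟨hpP, bot_le⟩ (nilradical_le_prime q (H := hq.1.1))) (nilradical_le_prime q (H := hq.1.1))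
  have hρ : ∀ a, ρ a = 0 ↔ a ∈ p := fun a => by
    show algebraMap D F (algebraMap R D a) = 0 ↔ _
    rw [map_eq_zero_iff _ (IsFractionRing.injective D F), ← RingHom.mem_ker, ← hnil]
  obtain ⟨P, hPP, hP⟩ := hmin p hpmin
  haveI := hPP
  -- every minimal prime of `T` is `P`
  have hPnil : ∀ t ∈ P, IsNilpotent t := by
    intro t ht
    rw [← mem_nilradical, nilradical, Submodule.zero_eq_bot, ← Ideal.sInf_minimalPrimes, Ideal.mem_sInf]
    intro P' hP'
    exact huniq p hpmin P P' hPP hP'.1.1 hP (hminp _ (hbir P' hP')) ▸ ht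
  have hmemp : ∀ a, algebraMap R T a ∈ P ↔ a ∈ p := fun a => by rw [← Ideal.mem_comap, hP]
  have hres' : ∀ t : T, ∃ a s : R, algebraMap R T s ∉ P ∧ algebraMap R T s * t - algebraMap R T a ∈ P :=
    hres P hPP (hP ▸ hpmin)
  choose num den hden hnum using hres'
  have hρne : ∀ s, algebraMap R T s ∉ P → ρ s ≠ 0 := fun s hs h0 => hs ((hmemp s).2 ((hρ s).1 h0))
  let φ₀ : T → F := fun t => ρ (num t) / ρ (den t)
  have hval : ∀ (t : T) (a s : R), algebraMap R T s * t - algebraMap R T a ∈ P → φ₀ t * ρ s = ρ a := by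
    intro t a s h
    have h1 : den t * a - s * num t ∈ p := by
      rw [← hmemp, map_sub, map_mul, map_mul]
      have := P.sub_mem (P.mul_mem_left (algebraMap R T s) (hnum t)) (P.mul_mem_left (algebraMap R T (den t)) h)
      convert this using 1
      ring
    rw [← hρ, map_sub, map_mul, map_mul, sub_eq_zero] at h1
    show ρ (num t) / ρ (den t) * ρ s = ρ a
    rw [div_mul_eq_mul_div, div_eq_iff (hρne _ (hden t)), mul_comm (ρ a), h1, mul_comm]
  have halg : ∀ r, φ₀ (algebraMap R T r) = ρ r := fun r => by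
    have := hval (algebraMap R T r) r 1 (by rw [map_one, one_mul, sub_self]; exact P.zero_mem)
    rwa [map_one, mul_one] at this
  have hss : ∀ t t', algebraMap R T (den t * den t') ∉ P := fun t t' h => by
    rw [map_mul] at h
    exact (hPP.mem_or_mem h).elim (hden t) (hden t')
  let φ : T →+* F :=
    { toFun := φ₀
      map_one' := by rw [← map_one (algebraMap R T), halg, map_one]
      map_zero' := by rw [← map_zero (algebraMap R T), halg, map_zero]
      map_mul' := fun t t' => by
        refine mul_right_cancel₀ (hρne _ (hss t t')) ?_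
        rw [hval (t * t') (num t * num t') (den t * den t') ?_, map_mul, map_mul, mul_mul_mul_comm,
          hval t _ _ (hnum t), hval t' _ _ (hnum t')]
        have := P.add_mem (P.mul_mem_left (algebraMap R T (den t') * t') (hnum t))
          (P.mul_mem_left (algebraMap R T (num t)) (hnum t'))
        rw [map_mul, map_mul]
        convert this using 1
        ring
      map_add' := fun t t' => by
        refine mul_right_cancel₀ (hρne _ (hss t t')) ?_
        rw [hval (t + t') (num t * den t' + num t' * den t) (den t * den t') ?_, map_add, map_mul, map_mul,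
          map_mul, add_mul]
        · rw [← mul_assoc, hval t _ _ (hnum t), mul_comm (ρ (den t)) (ρ (den t')), ← mul_assoc,
            hval t' _ _ (hnum t')]
        · have := P.add_mem (P.mul_mem_left (algebraMap R T (den t')) (hnum t))
            (P.mul_mem_left (algebraMap R T (den t)) (hnum t'))
          rw [map_add, map_mul, map_mul, map_mul]
          convert this using 1
          ring }
  have hφalg : ∀ r, φ (algebraMap R T r) = ρ r := halg
  have hφmem : ∀ t, ∃ d : D, algebraMap D F d = φ t := fun t => by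
    refine IsIntegrallyClosed.isIntegral_iff.mp ?_
    obtain ⟨f, hf, he⟩ := Algebra.IsIntegral.isIntegral (R := R) t
    refine ⟨f.map (algebraMap R D), hf.map _, ?_⟩
    rw [Polynomial.eval₂_map, show (algebraMap D F).comp (algebraMap R D) = φ.comp (algebraMap R T) from
      RingHom.ext fun r => (hφalg r).symm, ← Polynomial.hom_eval₂, he, map_zero]
  choose ψ₀ hψ₀ using hφmem
  have hF := IsFractionRing.injective D F
  let ψ : T →+* D :=
    { toFun := ψ₀
      map_one' := hF (by rw [hψ₀, map_one, map_one])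
      map_zero' := hF (by rw [hψ₀, map_zero, map_zero])
      map_mul' := fun a b => hF (by rw [hψ₀, map_mul, map_mul, hψ₀, hψ₀])
      map_add' := fun a b => hF (by rw [hψ₀, map_add, map_add, hψ₀, hψ₀]) }
  have hψalg : ψ.comp (algebraMap R T) = algebraMap R D := RingHom.ext fun r =>
    hF ((hψ₀ _).trans (hφalg r))
  have hψker : ∀ t, ψ t = 0 → IsNilpotent t := by
    intro t ht
    have h0 : φ t = 0 := by rw [← hψ₀ t, show ψ₀ t = 0 from ht, map_zero]
    have h1 := hval t _ _ (hnum t)
    rw [show φ₀ t = 0 from h0, zero_mul] at h1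
    refine hPnil t (hPP.mem_or_mem ?_ |>.resolve_left (hden t))
    have := P.add_mem (hnum t) ((hmemp _).2 ((hρ _).1 h1.symm))
    rwa [sub_add_cancel] at this
  have hψint : ψ.IsIntegral :=
    RingHom.IsIntegral.tower_top (algebraMap R T) ψ (by rw [hψalg]; exact hint.isIntegral)
  have hmD : (maximalIdeal D).comap (algebraMap R D) = maximalIdeal R :=
    IsLocalRing.eq_maximalIdeal (Ideal.isMaximal_comap_of_isIntegral_of_isMaximal (maximalIdeal D))
  have hQ₀ : ∀ Q : Ideal T, Q.IsPrime → Q.comap (algebraMap R T) = maximalIdeal R →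
      Q = (maximalIdeal D).comap ψ := by
    intro Q hQ hc
    haveI := hQ
    letI := ψ.toAlgebra
    haveI : Algebra.IsIntegral T D := ⟨hψint⟩
    obtain ⟨M, -, hM, hMQ⟩ := Ideal.exists_ideal_over_prime_of_isIntegral Q (⊥ : Ideal D) fun x hx =>
      nilradical_le_prime Q (mem_nilradical.mpr (hψker x hx))
    haveI := hM
    have hMc : M.comap (algebraMap R D) = maximalIdeal R := by
      rw [← hψalg, ← Ideal.comap_comap, show M.comap ψ = Q from hMQ, hc]
    rw [← hMQ, IsLocalRing.eq_maximalIdeal (Ideal.isMaximal_of_isIntegral_of_isMaximal_comap M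
      (hMc ▸ maximalIdeal.isMaximal R))]
    rfl
  refine ⟨fun Q Q' hQ hQ' hc hc' => (hQ₀ Q hQ hc).trans (hQ₀ Q' hQ' hc').symm, fun Q hQ hc t => ?_, ?_⟩
  · let χ : ResidueField R →+* ResidueField D := Ideal.quotientMap _ (algebraMap R D) hmD.ge
    haveI : ExpChar (ResidueField R) (ringExpChar (ResidueField R)) := ringExpChar.expChar _
    haveI : ExpChar (ResidueField D) (ringExpChar (ResidueField R)) :=
      (RingHom.expChar_iff χ χ.injective _).mp inferInstance
    obtain ⟨n, r, hr⟩ := hins (ψ t)
    rw [ringExpChar.eq (ResidueField D) (ringExpChar (ResidueField R))] at hr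
    refine ⟨n, r, ?_⟩
    rw [hQ₀ Q hQ hc, Ideal.mem_comap, map_sub, map_pow, ← RingHom.comp_apply ψ, hψalg]
    exact hr
  · intro Q _ hc
    have hQeq := hQ₀ Q inferInstance hc
    let lQ : Localization.AtPrime Q →+* D := IsLocalization.lift (M := Q.primeCompl) (g := ψ) fun s => by
      by_contra hs
      exact s.2 (hQeq ▸ (IsLocalRing.mem_maximalIdeal _).2 hs)
    have hlQ : ∀ t, lQ (algebraMap T _ t) = ψ t := fun t => IsLocalization.lift_eq _ t
    letI : Algebra (Localization.AtPrime Q) D := lQ.toAlgebra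
    refine ⟨D, inferInstance, inferInstance, inferInstance, inferInstance, hD, fun z hz => ?_, ⟨?_⟩, fun d => ?_⟩
    · obtain ⟨t, s, rfl⟩ := IsLocalization.exists_mk'_eq Q.primeCompl z
      have h1 : ψ t = 0 := by
        rw [← hlQ, ← IsLocalization.mk'_spec (Localization.AtPrime Q) t s, map_mul,
          show lQ (IsLocalization.mk' _ t s) = 0 from hz, zero_mul]
      obtain ⟨k, hk⟩ := hψker t h1
      exact ⟨k, by rw [← IsLocalization.mk'_pow, hk, IsLocalization.mk'_zero]⟩
    · refine RingHom.IsIntegral.tower_top ((algebraMap T (Localization.AtPrime Q)).comp (algebraMap R T)) lQ ?_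
      rw [← RingHom.comp_assoc, show lQ.comp (algebraMap T (Localization.AtPrime Q)) = ψ from RingHom.ext hlQ,
        hψalg]
      exact hint.isIntegral
    · obtain ⟨n, r, hr⟩ := hins d
      refine ⟨n, algebraMap T _ (algebraMap R T r), ?_⟩
      show _ - lQ _ ∈ _
      rw [hlQ, ← RingHom.comp_apply ψ, hψalg]
      exact hr

end Groth.Agent.RadPtUnib
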